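import Mathlib.RingTheory.PolynomialLaw.Basic
import Mathlib.FieldTheory.IsAlgClosed.AlgebraicClosure
import Mathlib.FieldTheory.PurelyInseparable.Basic
import Mathlib.FieldTheory.Minpoly.IsConjRoot
import Mathlib.RingTheory.MvPolynomial.IrreducibleQuadratic
import Mathlib.RingTheory.TensorProduct.MvPolynomial
import Mathlib.RingTheory.Polynomial.UniqueFactorization

/-! # Multiplicative laws on a finite field extension: basic tools -/

set_option autoImplicit false

universe u

open scoped TensorProduct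
open MvPolynomial

namespace FieldLawLib

variable {k K : Type u} [Field k] [Field K] [Algebra k K]

/-- Multiplicative and homogeneous of degree `d`. -/
def IsML (d : ℕ) (F : K →ₚₗ[k] k) : Prop :=
  (∀ (S : Type u) [CommRing S] [Algebra k S], F.toFun' S 1 = 1 ∧
    ∀ x y : S ⊗[k] K, F.toFun' S (x * y) = F.toFun' S x * F.toFun' S y) ∧
  ∀ (S : Type u) [CommRing S] [Algebra k S] (a : S) (z : S ⊗[k] K), F.toFun' S (a • z) = a ^ d • F.toFun' S z

/-- The value of a law, read in the test algebra. -/
noncomputable def val (F : K →ₚₗ[k] k) (S : Type u) [CommSemiring S] [Algebra k S] (z : S ⊗[k] K) : S :=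
  Algebra.TensorProduct.rid k S S (F.toFun' S z)

theorem val_map (F : K →ₚₗ[k] k) {S T : Type u} [CommSemiring S] [Algebra k S] [CommSemiring T] [Algebra k T]
    (φ : S →ₐ[k] T) (z : S ⊗[k] K) :
    φ (val F S z) = val F T (φ.toLinearMap.rTensor K z) := by
  have h := congrFun (F.isCompat' φ) z
  simp only [Function.comp_apply] at h
  rw [val, val, ← h]
  induction F.toFun' S z using TensorProduct.induction_on with
  | zero => simp
  | add a b ha hb => simp only [map_add, ha, hb]
  | tmul s c => simp [map_smul]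

variable [FiniteDimensional k K]

/-- The generic element. -/
noncomputable def gen (k K : Type u) [Field k] [Field K] [Algebra k K] [FiniteDimensional k K] :
    MvPolynomial (Fin (Module.finrank k K)) k ⊗[k] K :=
  ∑ i, X i ⊗ₜ Module.finBasis k K i

theorem exists_coords (S : Type u) [CommSemiring S] [Algebra k S] (z : S ⊗[k] K) :
    ∃ s : Fin (Module.finrank k K) → S, ∑ i, s i ⊗ₜ Module.finBasis k K i = z := by
  induction z using TensorProduct.induction_on with
  | zero => exact ⟨0, by simp⟩
  | add a b ha hb =>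
    obtain ⟨s, hs⟩ := ha
    obtain ⟨t, ht⟩ := hb
    exact ⟨s + t, by simp [TensorProduct.add_tmul, Finset.sum_add_distrib, hs, ht]⟩
  | tmul s x =>
    refine ⟨fun i => (Module.finBasis k K).repr x i • s, ?_⟩
    simp only [TensorProduct.smul_tmul, ← TensorProduct.tmul_sum, Module.Basis.sum_repr]

theorem val_eq_aeval (F : K →ₚₗ[k] k) (S : Type u) [CommSemiring S] [Algebra k S]
    (s : Fin (Module.finrank k K) → S) :
    val F S (∑ i, s i ⊗ₜ Module.finBasis k K i) = aeval s (val F _ (gen k K)) := by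
  rw [val_map F (aeval s), gen, map_sum]
  simp

theorem law_ext {F F' : K →ₚₗ[k] k} (h : val F _ (gen k K) = val F' _ (gen k K)) : F = F' := by
  refine PolynomialLaw.ext ?_
  funext S _ _ z
  obtain ⟨s, rfl⟩ := exists_coords S z
  apply (Algebra.TensorProduct.rid k S S).injective
  show val F S _ = val F' S _
  rw [val_eq_aeval, val_eq_aeval, h]

/-- The conjugate linear form. -/
noncomputable def ell (τ : K →ₐ[k] AlgebraicClosure k) :
    MvPolynomial (Fin (Module.finrank k K)) (AlgebraicClosure k) :=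
  ∑ i, C (τ (Module.finBasis k K i)) * X i

theorem eval₂_ell (τ : K →ₐ[k] AlgebraicClosure k) {T : Type*} [CommSemiring T]
    (j : AlgebraicClosure k →+* T) (s : Fin (Module.finrank k K) → T) :
    eval₂ j s (ell τ) = ∑ i, j (τ (Module.finBasis k K i)) * s i := by
  simp [ell, eval₂_sum]

theorem prime_ell (τ : K →ₐ[k] AlgebraicClosure k) : Prime (ell τ) := by
  obtain ⟨i₀, hi₀⟩ : ∃ i, τ (Module.finBasis k K i) ≠ 0 := by
    have : 0 < Module.finrank k K := Module.finrank_pos
    exact ⟨⟨0, this⟩, (map_ne_zero τ).2 ((Module.finBasis k K).ne_zero _)⟩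
  let c : Fin (Module.finrank k K) →₀ AlgebraicClosure k :=
    Finsupp.equivFunOnFinite.symm fun i => τ (Module.finBasis k K i)
  have hc : ell τ = sumSMulX c := by
    rw [sumSMulX, Finsupp.linearCombination_apply, Finsupp.sum_fintype _ _ (by simp)]
    simp [ell, c, smul_eq_C_mul]
  rw [hc]
  refine (irreducible_sumSMulX c ⟨i₀, by simpa [c] using hi₀⟩ fun r hr => ?_).prime
  exact isUnit_iff_ne_zero.2 fun h => hi₀ (zero_dvd_iff.1 (by simpa [h, c] using hr i₀))

theorem eq_of_agree {q : ℕ} (r : ℕ) {Ω : Type*} [Field Ω] [Algebra k Ω] [ExpChar Ω q]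
    (τ₁ τ₂ : K →ₐ[k] Ω) (E : Set K) (hE : ∀ x : K, x ^ q ^ r ∈ E) (h : ∀ x ∈ E, τ₁ x = τ₂ x) : τ₁ = τ₂ := by
  refine AlgHom.ext fun x => iterateFrobenius_inj Ω q r ?_
  simp only [iterateFrobenius_def]
  rw [← map_pow, ← map_pow]
  exact h _ (hE x)

theorem mem_range_of_fixed_of_separable (c : AlgebraicClosure k) (hsep : IsSeparable k c)
    (hfix : ∀ σ : AlgebraicClosure k ≃ₐ[k] AlgebraicClosure k, σ c = c) :
    c ∈ (algebraMap k (AlgebraicClosure k)).range := by
  have hint : IsIntegral k c := (Algebra.IsAlgebraic.isAlgebraic c).isIntegral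
  have hall : ∀ y ∈ ((minpoly k c).map (algebraMap k (AlgebraicClosure k))).roots, y = c := by
    intro y hy
    rw [Polynomial.mem_roots (Polynomial.map_ne_zero (minpoly.ne_zero hint)), Polynomial.IsRoot.def,
      Polynomial.eval_map_algebraMap] at hy
    have hconj : IsConjRoot k c y := (isConjRoot_iff_aeval_eq_zero hint).2 hy
    obtain ⟨σ, hσ⟩ := hconj.exists_algEquiv
    exact σ.injective (hσ.trans (hfix σ).symm)
  have hcard : (minpoly k c).natDegree ≤ 1 := by
    have hnd := Polynomial.Separable.map (f := algebraMap k (AlgebraicClosure k)) hsep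
    have h1 : ((minpoly k c).map (algebraMap k (AlgebraicClosure k))).roots.card = (minpoly k c).natDegree := by
      rw [← (IsAlgClosed.splits _).natDegree_eq_card_roots, Polynomial.natDegree_map]
    rw [← h1]
    by_contra hlt
    push Not at hlt
    have hle : ((minpoly k c).map (algebraMap k (AlgebraicClosure k))).roots ≤ {c} :=
      (Multiset.le_iff_subset (Polynomial.nodup_roots hnd)).2 fun y hy => Multiset.mem_singleton.2 (hall y hy)
    have := Multiset.card_le_card hle
    simp at this
    omega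
  exact minpoly.natDegree_eq_one_iff.1 (le_antisymm hcard (minpoly.natDegree_pos hint))

theorem exists_factor {R : Type*} [CommRing R] [IsDomain R] [DecompositionMonoid R] {ι : Type*} (s : Finset ι)
    (f : ι → R) (hf : ∀ i, Prime (f i)) (N : ι → ℕ) : ∀ P : R, P ∣ ∏ i ∈ s, f i ^ N i →
      ∃ (a : ι → ℕ) (u : Rˣ), P = u * ∏ i ∈ s, f i ^ a i := by
  classical
  induction s using Finset.induction_on with
  | empty =>
    intro P hP
    obtain ⟨u, hu⟩ := isUnit_of_dvd_one (by simpa using hP)
    exact ⟨0, u, by simpa using hu.symm⟩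
  | @insert i s hi ih =>
    intro P hP
    rw [Finset.prod_insert hi] at hP
    obtain ⟨P₁, P₂, h1, h2, rfl⟩ := exists_dvd_and_dvd_of_dvd_mul hP
    obtain ⟨m, -, u₁, hu₁⟩ := (dvd_prime_pow (hf i) _).1 h1
    obtain ⟨a, u₂, rfl⟩ := ih P₂ h2
    refine ⟨Function.update a i m, u₁⁻¹ * u₂, ?_⟩
    have e : ∏ x ∈ s, f x ^ Function.update a i m x = ∏ x ∈ s, f x ^ a x := Finset.prod_congr rfl fun j hj => by
      rw [Function.update_of_ne (by rintro rfl; exact hi hj)]
    rw [Finset.prod_insert hi, Function.update_self, e, Units.val_mul, ← hu₁]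
    calc P₁ * (↑u₂ * ∏ i ∈ s, f i ^ a i) = P₁ * (↑u₁ * ↑u₁⁻¹) * (↑u₂ * ∏ i ∈ s, f i ^ a i) := by simp
      _ = _ := by ring

end FieldLawLib
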