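import Groth.Agent.FieldLawLib.Struct
import Mathlib.FieldTheory.PrimitiveElement
import Mathlib.Algebra.Polynomial.Expand

/-! # The exponents of a law: equal, and divisible by the inseparability exponent -/

set_option autoImplicit false
set_option linter.style.haveILetI false

universe u

open scoped TensorProduct
open Polynomial

namespace FieldLawLib

variable {k K : Type u} [Field k] [Field K] [Algebra k K] [FiniteDimensional k K]

/-- An element of the separable closure separating all embeddings. -/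
theorem exists_separating {q r : ℕ} [ExpChar k q] (hsep : ∀ x : K, x ^ q ^ r ∈ separableClosure k K) :
    ∃ θ : separableClosure k K, (∀ x : separableClosure k K, ∃ p : k[X], aeval θ p = x) ∧
      ∀ τ₁ τ₂ : K →ₐ[k] AlgebraicClosure k, τ₁ (θ : K) = τ₂ (θ : K) → τ₁ = τ₂ := by
  haveI : ExpChar (AlgebraicClosure k) q := expChar_of_injective_algebraMap (algebraMap k (AlgebraicClosure k)).injective q
  obtain ⟨θ, hθ⟩ := Field.exists_primitive_element k (separableClosure k K)
  have hgen : ∀ x : separableClosure k K, ∃ p : k[X], aeval θ p = x := fun x => by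
    have hint : IsIntegral k θ := IsIntegral.of_finite k θ
    have hx : x ∈ Algebra.adjoin k {θ} := by
      rw [← IntermediateField.adjoin_simple_toSubalgebra_of_isAlgebraic hint.isAlgebraic, hθ]
      trivial
    rw [Algebra.adjoin_singleton_eq_range_aeval] at hx
    exact hx
  refine ⟨θ, hgen, fun τ₁ τ₂ h => ?_⟩
  refine eq_of_agree r τ₁ τ₂ (separableClosure k K : Set K) hsep fun x hx => ?_
  obtain ⟨p, hp⟩ := hgen ⟨x, hx⟩
  have hx' : x = aeval (θ : K) p := by
    rw [show (θ : K) = (separableClosure k K).val θ from rfl, aeval_algHom_apply, hp]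
    rfl
  rw [hx', ← aeval_algHom_apply, ← aeval_algHom_apply, h]

theorem exponents_eq [Fintype (K →ₐ[k] AlgebraicClosure k)] {q r : ℕ} [ExpChar k q]
    (hsep : ∀ x : K, x ^ q ^ r ∈ separableClosure k K) {F : K →ₚₗ[k] k}
    {a : (K →ₐ[k] AlgebraicClosure k) → ℕ}
    (ha : MvPolynomial.map (algebraMap k (AlgebraicClosure k)) (val F _ (gen k K)) = ∏ τ, ell τ ^ a τ)
    (τ₀ τ : K →ₐ[k] AlgebraicClosure k) : a τ₀ = a τ := by
  classical
  obtain ⟨θ, -, hinj⟩ := exists_separating (K := K) hsep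
  let ι : k[X] →ₐ[k] (AlgebraicClosure k)[X] := Polynomial.mapAlgHom (Algebra.ofId k (AlgebraicClosure k))
  let z : k[X] ⊗[k] K := X ⊗ₜ 1 + 1 ⊗ₜ (θ : K)
  obtain ⟨G, hGdef⟩ : ∃ G, G = ι (val F k[X] z) := ⟨_, rfl⟩
  have hG : G = ∏ τ : K →ₐ[k] AlgebraicClosure k, (X - C (-τ (θ : K))) ^ a τ := by
    rw [hGdef, algHom_val_eq_prod ha ι z]
    refine Finset.prod_congr rfl fun τ _ => ?_
    simp [z, ι, Polynomial.algebraMap_eq]
  have hne : ∀ s : Finset (K →ₐ[k] AlgebraicClosure k), (∏ τ ∈ s, (X - C (-τ (θ : K))) ^ a τ) ≠ 0 := fun s =>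
    Finset.prod_ne_zero_iff.2 fun τ _ => pow_ne_zero _ (X_sub_C_ne_zero _)
  have hmult : ∀ τ' : K →ₐ[k] AlgebraicClosure k, G.rootMultiplicity (-τ' (θ : K)) = a τ' := fun τ' => by
    rw [← count_roots, hG, roots_prod _ _ (hne _), Multiset.count_bind]
    simp only [roots_pow, roots_X_sub_C, Multiset.count_nsmul, Multiset.count_singleton]
    show ∑ x, a x * (if -τ' (θ : K) = -x (θ : K) then 1 else 0) = a τ'
    rw [Finset.sum_eq_single τ' (fun x _ hx => by
      rw [if_neg (fun h => hx (hinj _ _ (neg_inj.1 h)).symm), mul_zero]) (by simp), if_pos rfl, mul_one]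
  obtain ⟨σ, hσ⟩ : ∃ σ : AlgebraicClosure k ≃ₐ[k] AlgebraicClosure k, σ (τ₀ (θ : K)) = τ (θ : K) := by
    refine IsConjRoot.exists_algEquiv (K := k) ?_
    rw [IsConjRoot, minpoly.algHom_eq τ τ.injective, minpoly.algHom_eq τ₀ τ₀.injective]
  have hfix : G.map (σ : AlgebraicClosure k →+* AlgebraicClosure k) = G := by
    rw [hGdef]
    simp only [ι, Polynomial.coe_mapAlgHom, Polynomial.map_map]
    congr 1
    exact RingHom.ext fun x => σ.commutes x
  rw [← hmult τ₀, ← hmult τ]
  conv_rhs => rw [← hfix]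
  rw [show -τ (θ : K) = (σ : AlgebraicClosure k →+* AlgebraicClosure k) (-τ₀ (θ : K)) by rw [map_neg]; exact congrArg Neg.neg hσ.symm]
  exact eq_rootMultiplicity_map σ.injective _

theorem degree_eq [Fintype (K →ₐ[k] AlgebraicClosure k)] {d : ℕ} {F : K →ₚₗ[k] k} (hF : IsML d F)
    {a : ℕ} (ha : MvPolynomial.map (algebraMap k (AlgebraicClosure k)) (val F _ (gen k K)) = ∏ τ, ell τ ^ a) :
    d = Fintype.card (K →ₐ[k] AlgebraicClosure k) * a := by
  let ι : k[X] →ₐ[k] (AlgebraicClosure k)[X] := Polynomial.mapAlgHom (Algebra.ofId k (AlgebraicClosure k))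
  have h := algHom_val_eq_prod (a := fun _ => a) ha ι ((X : k[X]) • (1 : k[X] ⊗[k] K))
  rw [val_smul_one hF, Algebra.TensorProduct.one_def, TensorProduct.smul_tmul', smul_eq_mul, mul_one] at h
  simp only [ι, map_pow, Algebra.TensorProduct.lift_tmul, map_one, mul_one, Polynomial.coe_mapAlgHom, Polynomial.map_X,
    Finset.prod_const, Finset.card_univ, ← pow_mul] at h
  have h2 := congrArg natDegree h
  rw [natDegree_X_pow, natDegree_X_pow, mul_comm] at h2
  exact h2

theorem dvd_exponent [Fintype (K →ₐ[k] AlgebraicClosure k)] {q r : ℕ} [ExpChar k q]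
    (hsep : ∀ x : K, x ^ q ^ r ∈ separableClosure k K)
    (hmin : ∀ v < r, ∃ b : K, b ^ q ^ v ∉ separableClosure k K) {F : K →ₚₗ[k] k} {a : ℕ}
    (ha : MvPolynomial.map (algebraMap k (AlgebraicClosure k)) (val F _ (gen k K)) = ∏ τ, ell τ ^ a) :
    q ^ r ∣ a := by
  classical
  rcases Nat.eq_zero_or_pos r with rfl | hr
  · simp
  rcases Nat.eq_zero_or_pos a with rfl | ha0
  · simp
  obtain hq : q = 1 ∨ q.Prime := by
    rcases ‹ExpChar k q› with _ | ⟨hp⟩
    · exact Or.inl rfl
    · exact Or.inr hp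
  rcases hq with rfl | hq
  · obtain ⟨b, hb⟩ := hmin 0 hr
    exact absurd (by simpa using hsep b) (by simpa using hb)
  obtain ⟨v, a', hna', hva⟩ := Nat.exists_eq_pow_mul_and_not_dvd ha0.ne' q hq.ne_one
  subst hva
  by_contra hndvd
  have hv : v < r := by
    by_contra h
    exact hndvd (dvd_mul_of_dvd_left (pow_dvd_pow q (not_lt.1 h)) _)
  obtain ⟨b, hb⟩ := hmin v hv
  haveI : ExpChar (AlgebraicClosure k) q := expChar_of_injective_algebraMap (algebraMap k (AlgebraicClosure k)).injective q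
  haveI : ExpChar (AlgebraicClosure k)[X] q := expChar_of_injective_algebraMap (Polynomial.C_injective) q
  obtain ⟨θ, -, hinj⟩ := exists_separating (K := K) hsep
  let E := separableClosure k K
  obtain ⟨τ₀⟩ : Nonempty (K →ₐ[k] AlgebraicClosure k) := ⟨IsAlgClosed.lift⟩
  let τE : E →ₐ[k] AlgebraicClosure k := τ₀.comp E.val
  let ι : E[X] →ₐ[k] (AlgebraicClosure k)[X] := Polynomial.mapAlgHom τE
  -- an idempotent separating `τ₀`
  obtain ⟨h, hh⟩ : ∃ h : E[X], (minpoly k θ).map (algebraMap k E) = (X - C θ) * h := by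
    refine dvd_iff_isRoot.2 ?_
    rw [IsRoot, eval_map_algebraMap, minpoly.aeval]
  have hθ0 : h.eval θ ≠ 0 := fun h0 => by
    have hs : ((minpoly k θ).map (algebraMap k E)).Separable :=
      Polynomial.Separable.map (Algebra.IsSeparable.isSeparable k θ)
    obtain ⟨h', hh'⟩ := dvd_iff_isRoot.2 h0
    refine not_isUnit_X_sub_C θ (hs.squarefree _ ⟨h', ?_⟩)
    rw [hh, hh', mul_assoc]
  let u : E[X] ⊗[k] K := (C (h.eval θ)⁻¹ ⊗ₜ (1 : K)) *
    h.eval₂ ((Algebra.TensorProduct.includeLeft : E[X] →ₐ[k] E[X] ⊗[k] K).toRingHom.comp Polynomial.C)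
      ((1 : E[X]) ⊗ₜ (θ : K))
  let z : E[X] ⊗[k] K := 1 + u * (X ⊗ₜ 1 + 1 ⊗ₜ b - 1)
  have hlift : ∀ τ : K →ₐ[k] AlgebraicClosure k, Algebra.TensorProduct.lift ι
      ((IsScalarTower.toAlgHom k (AlgebraicClosure k) (AlgebraicClosure k)[X]).comp τ) (fun _ _ => Commute.all _ _) u =
        if τ = τ₀ then 1 else 0 := by
    intro τ
    have hu : Algebra.TensorProduct.lift ι
        ((IsScalarTower.toAlgHom k (AlgebraicClosure k) (AlgebraicClosure k)[X]).comp τ) (fun _ _ => Commute.all _ _) u =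
          C ((τE (h.eval θ))⁻¹ * (h.map (τE : E →+* AlgebraicClosure k)).eval (τ (θ : K))) := by
      simp only [u, map_mul, Algebra.TensorProduct.lift_tmul, map_one, mul_one]
      rw [show ∀ w, Algebra.TensorProduct.lift ι ((IsScalarTower.toAlgHom k (AlgebraicClosure k) (AlgebraicClosure k)[X]).comp τ) (fun _ _ => Commute.all _ _) (eval₂ ((Algebra.TensorProduct.includeLeft : E[X] →ₐ[k] E[X] ⊗[k] K).toRingHom.comp Polynomial.C) w h) = _ from
        fun w => Polynomial.hom_eval₂ h _ (Algebra.TensorProduct.lift ι ((IsScalarTower.toAlgHom k (AlgebraicClosure k) (AlgebraicClosure k)[X]).comp τ) (fun _ _ => Commute.all _ _)).toRingHom w]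
      congr 1
      · simp [ι]
      · rw [eval_map, Polynomial.hom_eval₂]
        congr 1
        · refine RingHom.ext fun c => ?_
          simp [ι]
        · simp [Polynomial.algebraMap_eq]
    rw [hu]
    split
    · next heq =>
      subst heq
      rw [show τ (θ : K) = (τE : E →+* AlgebraicClosure k) θ from rfl, eval_map, eval₂_at_apply]
      show C ((τE (h.eval θ))⁻¹ * τE (h.eval θ)) = 1
      rw [inv_mul_cancel₀ ((map_ne_zero τE).2 hθ0), map_one]
    · next hne =>
      have h1 := congrArg (fun P : E[X] => (P.map (τE : E →+* AlgebraicClosure k)).eval (τ (θ : K))) hh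
      simp only [Polynomial.map_map, Polynomial.map_mul, eval_mul, Polynomial.map_sub, Polynomial.map_X,
        Polynomial.map_C, eval_sub, eval_X, eval_C] at h1
      rw [AlgHom.comp_algebraMap, eval_map_algebraMap, aeval_algHom_apply] at h1
      have h2 : aeval (θ : K) (minpoly k θ) = 0 := by
        rw [show (θ : K) = E.val θ from rfl, aeval_algHom_apply, minpoly.aeval, map_zero]
      rw [h2, map_zero] at h1
      rw [(mul_eq_zero.1 h1.symm).resolve_left (sub_ne_zero.2 fun heq => hne (hinj _ _ heq)), mul_zero, map_zero]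
  have hz := algHom_val_eq_prod (a := fun _ => q ^ v * a') ha ι z
  rw [Finset.prod_eq_single τ₀ (fun τ _ hne => by
      simp only [z, map_add, map_mul, map_one, hlift, if_neg hne, zero_mul, add_zero, one_pow])
    (by simp)] at hz
  simp only [z, map_add, map_mul, map_sub, map_one, hlift, if_pos rfl, one_mul, Algebra.TensorProduct.lift_tmul,
    mul_one, add_sub_cancel] at hz
  obtain ⟨G, hG⟩ : ∃ G : E[X], G.map (τE : E →+* AlgebraicClosure k) = (X + C (τ₀ b)) ^ (q ^ v * a') := by
    refine ⟨_, hz.trans ?_⟩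
    simp [ι, Polynomial.algebraMap_eq]
  rw [pow_mul, add_pow_expChar_pow, ← map_pow C] at hG
  have hq0 : 0 < q ^ v := pow_pos hq.pos v
  have hex : ((X : (AlgebraicClosure k)[X]) ^ q ^ v + C (τ₀ b ^ q ^ v)) ^ a' =
      expand (AlgebraicClosure k) (q ^ v) ((X + C (τ₀ b ^ q ^ v)) ^ a') := by
    rw [map_pow (expand _ _), map_add (expand _ _), expand_X, expand_C]
  have hcoeff := congrArg (fun P => P.coeff (q ^ v * (a' - 1))) hG
  simp only [Polynomial.coeff_map, hex, coeff_expand_mul' hq0, coeff_X_add_C_pow] at hcoeff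
  have ha' : 1 ≤ a' := Nat.one_le_iff_ne_zero.2 fun h => hna' (h ▸ dvd_zero q)
  rw [Nat.sub_sub_self ha', pow_one, Nat.choose_symm ha', Nat.choose_one_right] at hcoeff
  haveI : CharP k q := by
    rcases ‹ExpChar k q› with _ | ⟨_⟩
    · exact absurd rfl hq.ne_one
    · assumption
  have hne0 : (a' : k) ≠ 0 := fun h => hna' ((CharP.cast_eq_zero_iff k q a').1 h)
  refine hb ?_
  have hmem : b ^ q ^ v = (algebraMap k E (a' : k))⁻¹.1 * (G.coeff (q ^ v * (a' - 1))).1 := by
    refine (τ₀ : K →+* AlgebraicClosure k).injective ?_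
    show τ₀ _ = τ₀ _
    have hc : τ₀ (G.coeff (q ^ v * (a' - 1))).1 = τ₀ b ^ q ^ v * (a' : AlgebraicClosure k) := hcoeff
    rw [map_mul, hc, map_pow]
    have he : ((algebraMap k E (a' : k))⁻¹.1 : K) = (algebraMap k K (a' : k))⁻¹ := rfl
    rw [he, map_inv₀, AlgHom.commutes, map_natCast]
    have hA : (a' : AlgebraicClosure k) ≠ 0 := fun h =>
      hne0 ((map_eq_zero (algebraMap k (AlgebraicClosure k))).1 (by rwa [map_natCast]))
    field_simp
  rw [hmem]
  exact mul_mem (SetLike.coe_mem _) (SetLike.coe_mem _)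

end FieldLawLib
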