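import Groth.Prelude.Def_PolLaw2
import Groth.Agent.FieldLawLib.Degree

/-! # Existence: the norm of the separable part after a Frobenius power -/

set_option autoImplicit false
set_option linter.style.haveILetI false

universe u

open scoped TensorProduct

namespace FieldLawLib

variable {k K : Type u} [Field k] [Field K] [Algebra k K]

theorem add_pow_of_expChar (q r : ℕ) [ExpChar k q] (S : Type u) [CommSemiring S] [Algebra k S] (s t : S) :
    (s + t) ^ q ^ r = s ^ q ^ r + t ^ q ^ r := by
  rcases ‹ExpChar k q› with _ | ⟨hp⟩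
  · simp
  · induction r with
    | zero => simp
    | succ r ih =>
      obtain ⟨c, hc⟩ := exists_add_pow_prime_eq hp (s ^ q ^ r) (t ^ q ^ r)
      have h0 : (q : S) = 0 := by rw [← map_natCast (algebraMap k S), CharP.cast_eq_zero k q, map_zero]
      rw [pow_succ, pow_mul, ih, hc, h0, zero_mul, zero_mul, zero_mul, add_zero, ← pow_mul, ← pow_mul]

variable (q r : ℕ) [ExpChar k q] [ExpChar K q] (hsep : ∀ x : K, x ^ q ^ r ∈ separableClosure k K)

/-- `s ⊗ x ↦ s^(q^r) ⊗ x^(q^r)`. -/
noncomputable def frob (S : Type u) [CommSemiring S] [Algebra k S] :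
    S ⊗[k] K →+ S ⊗[k] separableClosure k K :=
  TensorProduct.liftAddHom
    { toFun := fun s =>
        { toFun := fun x => (s ^ q ^ r) ⊗ₜ[k] (⟨x ^ q ^ r, hsep x⟩ : separableClosure k K)
          map_zero' := by
            rw [show (⟨(0 : K) ^ q ^ r, hsep 0⟩ : separableClosure k K) = 0 from
              Subtype.ext (zero_pow (pow_pos (expChar_pos k q) r).ne'), TensorProduct.tmul_zero]
          map_add' := fun x y => by
            rw [← TensorProduct.tmul_add]
            congr 1
            exact Subtype.ext (add_pow_expChar_pow x y q r) }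
      map_zero' := AddMonoidHom.ext fun x => by
        change ((0 : S) ^ q ^ r) ⊗ₜ[k] _ = 0
        rw [zero_pow (pow_pos (expChar_pos k q) r).ne', TensorProduct.zero_tmul]
      map_add' := fun s t => AddMonoidHom.ext fun x => by
        change ((s + t) ^ q ^ r) ⊗ₜ[k] _ = _
        rw [add_pow_of_expChar (k := k) q r S, TensorProduct.add_tmul]
        rfl }
    fun c s x => by
      change ((c • s) ^ q ^ r) ⊗ₜ[k] _ = (s ^ q ^ r) ⊗ₜ[k] (⟨(c • x) ^ q ^ r, hsep _⟩ : separableClosure k K)
      rw [smul_pow, TensorProduct.smul_tmul]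
      congr 1
      exact Subtype.ext (smul_pow c x (q ^ r)).symm

theorem frob_tmul (S : Type u) [CommSemiring S] [Algebra k S] (s : S) (x : K) :
    frob q r hsep S (s ⊗ₜ x) = (s ^ q ^ r) ⊗ₜ[k] (⟨x ^ q ^ r, hsep x⟩ : separableClosure k K) := rfl

theorem frob_one (S : Type u) [CommSemiring S] [Algebra k S] : frob q r hsep S 1 = 1 := by
  rw [Algebra.TensorProduct.one_def, frob_tmul, one_pow]
  congr 1
  exact Subtype.ext (one_pow _)

theorem frob_mul (S : Type u) [CommSemiring S] [Algebra k S] (x y : S ⊗[k] K) :
    frob q r hsep S (x * y) = frob q r hsep S x * frob q r hsep S y := by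
  induction x using TensorProduct.induction_on with
  | zero => simp
  | add a b ha hb => simp only [add_mul, map_add, ha, hb]
  | tmul s a =>
    induction y using TensorProduct.induction_on with
    | zero => simp
    | add c d hc hd => simp only [mul_add, map_add, hc, hd]
    | tmul t b =>
      rw [Algebra.TensorProduct.tmul_mul_tmul, frob_tmul, frob_tmul, frob_tmul,
        Algebra.TensorProduct.tmul_mul_tmul, mul_pow]
      congr 1
      exact Subtype.ext (mul_pow a b _)

theorem frob_smul (S : Type u) [CommSemiring S] [Algebra k S] (a : S) (x : S ⊗[k] K) :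
    frob q r hsep S (a • x) = a ^ q ^ r • frob q r hsep S x := by
  induction x using TensorProduct.induction_on with
  | zero => simp
  | add y z hy hz => simp only [smul_add, map_add, hy, hz]
  | tmul t b => simp [TensorProduct.smul_tmul', frob_tmul, mul_pow]

theorem frob_compat {S T : Type u} [CommSemiring S] [Algebra k S] [CommSemiring T] [Algebra k T]
    (φ : S →ₐ[k] T) (x : S ⊗[k] K) :
    φ.toLinearMap.rTensor (separableClosure k K) (frob q r hsep S x) =
      frob q r hsep T (φ.toLinearMap.rTensor K x) := by
  induction x using TensorProduct.induction_on with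
  | zero => simp
  | add a b ha hb => simp only [map_add, ha, hb]
  | tmul s a => simp [frob_tmul]

include hsep in
theorem exists_law [FiniteDimensional k K] (j : ℕ) :
    ∃ F : K →ₚₗ[k] k, IsML (Module.finrank k (separableClosure k K) * q ^ r * j) F := by
  let N := PolLaw.normLaw k (separableClosure k K) (Module.finrank k (separableClosure k K)) rfl
  have hN : ∀ {S T : Type u} [CommSemiring S] [Algebra k S] [CommSemiring T] [Algebra k T] (φ : S →ₐ[k] T)
      (y : S ⊗[k] separableClosure k K),
      φ.toLinearMap.rTensor k (N.law.toFun' S y) = N.law.toFun' T (φ.toLinearMap.rTensor _ y) :=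
    fun φ y => congrFun (N.law.isCompat' φ) y
  refine ⟨{ toFun' := fun S _ _ x => (N.law.toFun' S (frob q r hsep S x)) ^ j
            isCompat' := fun {S} _ _ {T} _ _ φ => funext fun x => ?_ }, fun S _ _ => ⟨?_, fun x y => ?_⟩,
          fun S _ _ a z => ?_⟩
  · simp only [Function.comp_apply]
    rw [PolLaw.rTensor_algHom_apply, map_pow, ← PolLaw.rTensor_algHom_apply, hN, frob_compat]
  · show (N.law.toFun' S (frob q r hsep S 1)) ^ j = 1
    rw [frob_one, (N.mult S).1, one_pow]
  · show (N.law.toFun' S (frob q r hsep S (x * y))) ^ j = _ ^ j * _ ^ j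
    rw [frob_mul, (N.mult S).2, mul_pow]
  · show (N.law.toFun' S (frob q r hsep S (a • z))) ^ j = a ^ _ • (N.law.toFun' S (frob q r hsep S z)) ^ j
    rw [frob_smul, N.homog S, smul_pow, ← pow_mul, ← pow_mul]
    congr 2
    ring

end FieldLawLib
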