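import Groth.Agent.FieldLawLib.Basic

/-! # The shape of a multiplicative homogeneous law on a finite field extension -/

set_option autoImplicit false

universe u

open scoped TensorProduct
open MvPolynomial

namespace FieldLawLib

variable {k K : Type u} [Field k] [Field K] [Algebra k K] [FiniteDimensional k K]

theorem val_one {d : ℕ} {F : K →ₚₗ[k] k} (hF : IsML d F) (S : Type u) [CommRing S] [Algebra k S] :
    val F S 1 = 1 := by
  rw [val, (hF.1 S).1, map_one]

theorem val_mul {d : ℕ} {F : K →ₚₗ[k] k} (hF : IsML d F) (S : Type u) [CommRing S] [Algebra k S]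
    (x y : S ⊗[k] K) : val F S (x * y) = val F S x * val F S y := by
  rw [val, (hF.1 S).2, map_mul]
  rfl

theorem val_smul_one {d : ℕ} {F : K →ₚₗ[k] k} (hF : IsML d F) (S : Type u) [CommRing S] [Algebra k S]
    (a : S) : val F S (a • 1) = a ^ d := by
  rw [val, hF.2 S, map_smul, (hF.1 S).1, map_one, smul_eq_mul, mul_one]

theorem map_ell (σ : AlgebraicClosure k ≃ₐ[k] AlgebraicClosure k) (τ : K →ₐ[k] AlgebraicClosure k) :
    MvPolynomial.map (σ : AlgebraicClosure k →+* AlgebraicClosure k) (ell τ) = ell (σ.toAlgHom.comp τ) := by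
  simp [ell, map_sum]

/-- A power of the product of the conjugate forms is defined over `k`. -/
theorem exists_descend_prod {q r : ℕ} [ExpChar k q] (hsep : ∀ x : K, x ^ q ^ r ∈ separableClosure k K)
    [Fintype (K →ₐ[k] AlgebraicClosure k)] :
    ∃ Q : MvPolynomial (Fin (Module.finrank k K)) k,
      MvPolynomial.map (algebraMap k (AlgebraicClosure k)) Q = ∏ τ, ell (K := K) τ ^ q ^ r := by
  haveI : ExpChar (AlgebraicClosure k) q := expChar_of_injective_algebraMap (algebraMap k (AlgebraicClosure k)).injective q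
  haveI : ExpChar (MvPolynomial (Fin (Module.finrank k K)) (AlgebraicClosure k)) q :=
    expChar_of_injective_algebraMap (MvPolynomial.C_injective _ _) q
  obtain ⟨Qb, hQb⟩ : ∃ Qb : MvPolynomial (Fin (Module.finrank k K)) (AlgebraicClosure k), Qb = ∏ τ, ell (K := K) τ ^ q ^ r := ⟨_, rfl⟩
  rw [← hQb]
  refine RingHom.mem_range.1 (mem_range_map_iff_coeffs_subset.2 fun c hc => ?_)
  obtain ⟨m, -, rfl⟩ := mem_coeffs_iff.1 hc
  refine mem_range_of_fixed_of_separable _ ?_ fun σ => ?_
  · have hmem : Qb ∈ (MvPolynomial.map (σ := Fin (Module.finrank k K))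
        (algebraMap (separableClosure k (AlgebraicClosure k)) (AlgebraicClosure k))).range := by
      rw [hQb]
      refine Subring.prod_mem _ fun τ _ => ?_
      rw [ell, sum_pow_char_pow]
      refine Subring.sum_mem _ fun i _ => ⟨C ⟨τ (Module.finBasis k K i ^ q ^ r),
        (map_mem_separableClosure_iff τ).2 (hsep _)⟩ * X i ^ q ^ r, ?_⟩
      simp [mul_pow, map_pow]
    obtain ⟨Q', hQ'⟩ := hmem
    rw [← hQ', coeff_map]
    exact mem_separableClosure_iff.1 (Q'.coeff m).2
  · have hfix : MvPolynomial.map (σ : AlgebraicClosure k →+* AlgebraicClosure k) Qb = Qb := by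
      rw [hQb, map_prod]
      let eq : (K →ₐ[k] AlgebraicClosure k) ≃ (K →ₐ[k] AlgebraicClosure k) :=
        { toFun := fun τ => σ.toAlgHom.comp τ
          invFun := fun τ => σ.symm.toAlgHom.comp τ
          left_inv := fun τ => AlgHom.ext fun x => σ.symm_apply_apply (τ x)
          right_inv := fun τ => AlgHom.ext fun x => σ.apply_symm_apply (τ x) }
      refine Fintype.prod_equiv eq _ _ fun τ => ?_
      rw [map_pow, map_ell]
      rfl
    exact (coeff_map _ _ _).symm.trans (congrArg (MvPolynomial.coeff m) hfix)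

theorem dvd_of_map_dvd {σ : Type*} {Ω : Type*} [Field Ω] (j : K →+* Ω) (p Q : MvPolynomial σ K)
    (h : MvPolynomial.map j p ∣ MvPolynomial.map j Q) : p ∣ Q := by
  classical
  letI := j.toAlgebra
  obtain ⟨rr, hr⟩ := LinearMap.exists_leftInverse_of_injective (Algebra.linearMap K Ω)
    (LinearMap.ker_eq_bot.2 (algebraMap K Ω).injective)
  obtain ⟨W, hW⟩ := h
  refine ⟨∑ m ∈ W.support, monomial m (rr (W.coeff m)), MvPolynomial.ext _ _ fun m => ?_⟩
  have hc : ∀ m, MvPolynomial.coeff m (∑ m ∈ W.support, monomial m (rr (W.coeff m))) = rr (W.coeff m) := fun m => by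
    rw [coeff_sum]
    simp only [coeff_monomial, Finset.sum_ite_eq', mem_support_iff, ne_eq, ite_not]
    split
    · next h => rw [h, map_zero]
    · rfl
  have h1 := congrArg (fun P => rr (MvPolynomial.coeff m P)) hW
  simp only [coeff_mul, coeff_map, map_sum] at h1
  rw [coeff_mul]
  simp only [hc]
  rw [show rr (j (Q.coeff m)) = Q.coeff m from LinearMap.congr_fun hr _] at h1
  rw [h1]
  refine Finset.sum_congr rfl fun x _ => ?_
  show rr (j (p.coeff x.1) * W.coeff x.2) = p.coeff x.1 * rr (W.coeff x.2)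
  rw [← RingHom.algebraMap_toAlgebra j, ← Algebra.smul_def, map_smul, smul_eq_mul]

/-- The value of a law as a product over the conjugates. -/
theorem exists_exponents {q r : ℕ} [ExpChar k q] (hsep : ∀ x : K, x ^ q ^ r ∈ separableClosure k K)
    [Fintype (K →ₐ[k] AlgebraicClosure k)] {d : ℕ} {F : K →ₚₗ[k] k} (hF : IsML d F) :
    ∃ a : (K →ₐ[k] AlgebraicClosure k) → ℕ,
      MvPolynomial.map (algebraMap k (AlgebraicClosure k)) (val F _ (gen k K)) = ∏ τ, ell τ ^ a τ := by
  classical
  obtain ⟨Q, hQ⟩ := exists_descend_prod (K := K) hsep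
  let A := MvPolynomial (Fin (Module.finrank k K)) k
  let Φ : A ⊗[k] K ≃ₐ[k] MvPolynomial (Fin (Module.finrank k K)) K :=
    (Algebra.TensorProduct.comm k A K).trans ((algebraTensorAlgEquiv k K).restrictScalars k)
  have hΦ : ∀ (p : A) (x : K), Φ (p ⊗ₜ x) = C x * MvPolynomial.map (algebraMap k K) p := fun p x => by
    show algebraTensorAlgEquiv k K (x ⊗ₜ p) = _
    rw [algebraTensorAlgEquiv_tmul, smul_eq_C_mul]
  obtain ⟨τ₀⟩ : Nonempty (K →ₐ[k] AlgebraicClosure k) := ⟨IsAlgClosed.lift⟩
  obtain ⟨W, hW⟩ : Φ (gen k K) ∣ MvPolynomial.map (algebraMap k K) Q := by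
    refine dvd_of_map_dvd (τ₀ : K →+* AlgebraicClosure k) _ _ ?_
    have h1 : MvPolynomial.map (τ₀ : K →+* AlgebraicClosure k) (Φ (gen k K)) = ell τ₀ := by
      simp [gen, ell, map_sum, hΦ]
    rw [h1, MvPolynomial.map_map, AlgHom.comp_algebraMap, hQ]
    exact (dvd_pow_self _ (pow_ne_zero _ (expChar_pos k q).ne')).trans
      (Finset.dvd_prod_of_mem (fun τ => ell τ ^ q ^ r) (Finset.mem_univ τ₀))
  have hmul : gen k K * Φ.symm W = Q • (1 : A ⊗[k] K) := by
    apply Φ.injective
    rw [map_mul, AlgEquiv.apply_symm_apply, ← hW, Algebra.TensorProduct.one_def,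
      TensorProduct.smul_tmul', smul_eq_mul, mul_one, hΦ, map_one, one_mul]
  have hdvd : val F A (gen k K) ∣ Q ^ d := ⟨val F A (Φ.symm W), by
    rw [← val_mul hF, hmul, val_smul_one hF]⟩
  have hdvd' := map_dvd (MvPolynomial.map (algebraMap k (AlgebraicClosure k))) hdvd
  rw [map_pow, hQ, ← Finset.prod_pow] at hdvd'
  simp only [← pow_mul] at hdvd'
  obtain ⟨a, u, hu⟩ := exists_factor Finset.univ _ (fun τ => prime_ell τ) _ _ hdvd'
  refine ⟨a, hu.trans ?_⟩
  obtain ⟨c, hc, hcu⟩ := isUnit_iff_eq_C_of_isReduced.1 u.isUnit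
  -- evaluate at `1`
  obtain ⟨s, hs⟩ := exists_coords (K := K) k (1 : k ⊗[k] K)
  have h1 := congrArg (MvPolynomial.eval fun i => algebraMap k (AlgebraicClosure k) (s i)) hu
  rw [eval_map, map_mul, map_prod] at h1
  have hl : ∀ τ : K →ₐ[k] AlgebraicClosure k,
      MvPolynomial.eval (fun i => algebraMap k (AlgebraicClosure k) (s i)) (ell τ) = 1 := fun τ => by
    have := congrArg (Algebra.TensorProduct.lift (Algebra.ofId k (AlgebraicClosure k)) τ fun _ _ => Commute.all _ _) hs
    simp only [map_sum, Algebra.TensorProduct.lift_tmul, map_one] at this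
    rw [← this]
    simp [ell, mul_comm, Algebra.ofId_apply]
  have hv : MvPolynomial.eval₂ (algebraMap k (AlgebraicClosure k)) (fun i => algebraMap k (AlgebraicClosure k) (s i))
      (val F A (gen k K)) = 1 := by
    have h2 := congrArg (algebraMap k (AlgebraicClosure k)) ((val_eq_aeval F k s).symm.trans (hs ▸ val_one hF k))
    rw [map_one, ← aeval_algebraMap_apply] at h2
    exact h2
  rw [hv, hcu, eval_C] at h1
  simp only [map_pow, hl, one_pow, Finset.prod_const_one, mul_one] at h1
  rw [hcu, ← h1, map_one, one_mul]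

/-- Evaluation of a law through the conjugates. -/
theorem algHom_val_eq_prod [Fintype (K →ₐ[k] AlgebraicClosure k)] {F : K →ₚₗ[k] k}
    {a : (K →ₐ[k] AlgebraicClosure k) → ℕ}
    (ha : MvPolynomial.map (algebraMap k (AlgebraicClosure k)) (val F _ (gen k K)) = ∏ τ, ell τ ^ a τ)
    {S : Type u} [CommSemiring S] [Algebra k S] {T : Type u} [CommRing T] [Algebra k T]
    [Algebra (AlgebraicClosure k) T] [IsScalarTower k (AlgebraicClosure k) T] (ι : S →ₐ[k] T) (z : S ⊗[k] K) :
    ι (val F S z) = ∏ τ : K →ₐ[k] AlgebraicClosure k, (Algebra.TensorProduct.lift ι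
      ((IsScalarTower.toAlgHom k (AlgebraicClosure k) T).comp τ) (fun _ _ => Commute.all _ _) z) ^ a τ := by
  obtain ⟨s, rfl⟩ := exists_coords S z
  rw [val_eq_aeval]
  have h := congrArg (MvPolynomial.eval₂Hom (algebraMap (AlgebraicClosure k) T) fun i => ι (s i)) ha
  rw [eval₂Hom_map_hom, map_prod, ← IsScalarTower.algebraMap_eq] at h
  refine ((DFunLike.congr_fun (comp_aeval s ι) _).trans h).trans (Finset.prod_congr rfl fun τ _ => ?_)
  rw [map_pow, coe_eval₂Hom, eval₂_ell, map_sum]
  simp [mul_comm]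

end FieldLawLib
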